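/-
Elements of the presented Fischer group Fi22 intertwining two given elements: checks and their meaning.
-/
import Cfsg.Agent.H29.CosetCert.Fi22Order.Cert
import Cfsg.Agent.FiTwoTwoOut.Data

set_option autoImplicit false
set_option maxRecDepth 100000

namespace CfsgLib.FiTwoTwoOut

open H29.CosetCert MulAction

/-- The group. -/
abbrev Sz : Type := Cfsg.Spor.Fi22

/-- The action. -/
noncomputable abbrev rho : Sz →* Equiv.Perm (Fin 3510) := Fi22Cert.ρ

theorem finite_Sz : Finite Sz := Fi22Ord.finite_card.1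

theorem card_Sz : Nat.card Sz = 64561751654400 := Fi22Ord.injective_card.2

open Classical in
/-- A checked permutation as an element of the group. -/
noncomputable def el (k : ℕ) : Sz :=
  if hk : k < 54 then (Fi22Cert.cert.elems Fi22Slp.slp (by decide) Fi22Slp.entries_ok k hk).choose else 1

theorem el_spec {k : ℕ} (hk : k < 54) (c : Fin 3510) :
    ((rho (el k) c : Fin 3510) : ℕ) = Fi22Slp.slp.tbl k c := by
  rw [el, dif_pos hk]
  exact (Fi22Cert.cert.elems Fi22Slp.slp (by decide) Fi22Slp.entries_ok k hk).choose_spec c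

/-! ### Sifting -/

/-! ### Words -/

/-- The action of a word. -/
noncomputable def ev (w : List ℕ) (c : ℕ) : ℕ := runR Fi22Slp.slp.tbl w c

/-- The letters of a word are in range. -/
def lt54 (w : List ℕ) : Bool := w.all fun x => Nat.blt x 54

/-- The value of a word. -/
noncomputable def wv (w : List ℕ) : Sz := (w.map el).prod

theorem wv_nil : wv [] = 1 := rfl
theorem wv_append (w v : List ℕ) : wv (w ++ v) = wv w * wv v := by simp [wv]
theorem wv_single (i : ℕ) : wv [i] = el i := by simp [wv]

theorem wv_spec {w : List ℕ} (hw : lt54 w = true) (c : Fin 3510) :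
    ((rho (wv w) c : Fin 3510) : ℕ) = ev w c :=
  Fi22Cert.cert.word_val (L := Fi22Slp.slp) (el := el) (fun _ hk c => el_spec hk c) w
    (fun x hx => Nat.blt_eq.mp (List.all_eq_true.1 hw x hx)) c

/-! ### Sifting along a chain -/

/-- A lower bound from a checked chain, and what it says when it is attained. -/
theorem chain_tight {P : Slp} {el : ℕ → Sz} (el_spec : ∀ {k : ℕ}, k < P.K → ∀ c : Fin 3510, ((rho (el k) c : Fin 3510) : ℕ) = P.tbl k c) : ∀ (ls : List BaseLevel) (K : Subgroup (Equiv.Perm (Fin 3510))),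
    chainOK P 3510 ls = true → (∀ l ∈ ls, ∀ u ∈ l.U, rho (el u) ∈ K) →
    (ls.map BaseLevel.sz).prod ≤ Nat.card K ∧
    ((ls.map BaseLevel.sz).prod = Nat.card K → ∀ g ∈ K,
      (∀ i < ls.length, (∀ j < i, ∀ c : Fin 3510, (c : ℕ) = (ls.getD j ⟨0, [], 0, [], 0⟩).b → g c = c) →
        ∀ c : Fin 3510, (c : ℕ) = (ls.getD i ⟨0, [], 0, [], 0⟩).b →
          (ls.getD i ⟨0, [], 0, [], 0⟩).m.testBit (g c : Fin 3510) = true) ∧
      ((∀ j < ls.length, ∀ c : Fin 3510, (c : ℕ) = (ls.getD j ⟨0, [], 0, [], 0⟩).b → g c = c) → g = 1)) := by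
  intro ls
  induction ls with
  | nil =>
    intro K _ _
    refine ⟨Nat.card_pos, fun he g hg => ⟨fun i hi => absurd hi (Nat.not_lt_zero i), fun _ => ?_⟩⟩
    simp only [List.map_nil, List.prod_nil] at he
    have : Subsingleton K := Finite.card_le_one_iff_subsingleton.1 he.symm.le
    exact congrArg Subtype.val (Subsingleton.elim (⟨g, hg⟩ : K) 1)
  | cons l rest ih =>
    intro K hl hU
    simp only [chainOK, Bool.and_eq_true, List.all_eq_true, Nat.blt_eq, beq_iff_eq] at hl
    obtain ⟨⟨⟨⟨⟨hb, hUK⟩, hfix⟩, hgrow⟩, hcnt⟩, hrest⟩ := hl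
    set b : Fin 3510 := ⟨l.b, hb⟩
    let K' : Subgroup (Equiv.Perm (Fin 3510)) := K ⊓ MulAction.stabilizer _ b
    have hall : ∀ (ls : List BaseLevel), chainOK P 3510 ls = true → ∀ r ∈ ls, ∀ u ∈ r.U,
        u < P.K := by
      intro ls
      induction ls with
      | nil => simp
      | cons a as iha =>
        intro hc r hr u hu
        simp only [chainOK, Bool.and_eq_true, List.all_eq_true, Nat.blt_eq, beq_iff_eq] at hc
        rcases List.mem_cons.1 hr with rfl | hr
        · exact hc.1.1.1.1.2 u hu
        · exact iha hc.2 r hr u hu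
    have hK'U : ∀ r ∈ rest, ∀ u ∈ r.U, rho (el u) ∈ K' := fun r hr u hu => by
      refine ⟨hU r (List.mem_cons_of_mem _ hr) u hu, ?_⟩
      show rho (el u) b = b
      apply Fin.ext
      rw [el_spec (hall rest hrest r hr u hu)]
      exact hfix r hr u hu
    obtain ⟨hK', htight⟩ := ih K' hrest hK'U
    have hmem : ∀ (g : List ℕ) (seen : ℕ),
        growOK P.tbl (l.U.map fun u => [u]) l.m g seen = true →
        (∀ c : ℕ, seen.testBit c = true → ∃ d ∈ MulAction.orbit K b, (d : ℕ) = c) →
        ∀ c : ℕ, l.m.testBit c = true → ∃ d ∈ MulAction.orbit K b, (d : ℕ) = c := by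
      intro g
      induction g with
      | nil =>
        intro seen hg hseen c hc
        simp only [growOK, beq_iff_eq] at hg
        exact hseen c (hg ▸ hc)
      | cons e g ihg =>
        intro seen hg hseen
        simp only [growOK, Bool.and_eq_true, beq_iff_eq] at hg
        obtain ⟨⟨hbit, he⟩, hg⟩ := hg
        apply ihg _ hg
        intro c hc
        rw [Nat.testBit_lor, Bool.or_eq_true, Nat.testBit_two_pow, decide_eq_true_iff] at hc
        rcases hc with hc | hc
        · exact hseen c hc
        obtain ⟨d, hd, hdc⟩ := hseen _ hbit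
        subst hc
        by_cases hi : fld e 2 < l.U.length
        · refine ⟨rho (el l.U[fld e 2]) d, ?_, ?_⟩
          · obtain ⟨k, rfl⟩ := hd
            exact ⟨⟨_, hU l List.mem_cons_self _ (List.getElem_mem hi)⟩ * k,
              by show (_ * k) • b = _; rw [mul_smul]; rfl⟩
          · rw [el_spec (hUK _ (List.getElem_mem hi)), hdc, ← he]
            simp [List.getD_eq_getElem?_getD, hi, runR_cons, runR]
        · rw [List.getD_eq_default _ _ (by simp; omega)] at he
          exact ⟨d, hd, hdc.trans he⟩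
    have hallm := hmem _ _ hgrow (fun c hc => by
      rw [Nat.testBit_two_pow, decide_eq_true_iff] at hc
      exact ⟨b, MulAction.mem_orbit_self b, hc⟩)
    have hcount : ∀ (k lo : ℕ),
        countIn l.m.testBit lo k =
          ((Finset.Ico lo (lo + k)).filter fun c => l.m.testBit c = true).card := by
      intro k
      induction k with
      | zero => intro lo; simp [countIn]
      | succ k ihk =>
        intro lo
        have hins : Finset.Ico lo (lo + (k + 1)) =
            insert lo (Finset.Ico (lo + 1) (lo + 1 + k)) := by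
          ext; simp; omega
        rw [countIn, ihk, hins, Finset.filter_insert]
        rcases Bool.eq_false_or_eq_true (l.m.testBit lo) with hh | hh <;> simp [hh]
    set S : Set ℕ := ↑((Finset.Ico 0 (0 + 3510)).filter fun c => l.m.testBit c = true) with hS
    have hScard : S.ncard = l.sz := by rw [hS, Set.ncard_coe_finset, ← hcount, hcnt]
    have hsub : S ⊆ Fin.val '' MulAction.orbit K b := by
      intro c hc
      simp only [hS, Finset.coe_filter, Finset.mem_Ico, Set.mem_setOf_eq] at hc
      obtain ⟨d, hd, hdc⟩ := hallm c hc.2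
      exact ⟨d, hd, hdc⟩
    have horb : l.sz ≤ Nat.card (MulAction.orbit K b) := by
      rw [Nat.card_coe_set_eq, ← hScard, ← Set.ncard_image_of_injective (MulAction.orbit K b) Fin.val_injective]
      exact Set.ncard_le_ncard hsub (Set.toFinite _)
    have hst : Nat.card (MulAction.stabilizer K b) = Nat.card K' :=
      Nat.card_congr ⟨fun x => ⟨x.1.1, x.1.2, x.2⟩, fun x => ⟨⟨x.1, x.2.1⟩, x.2.2⟩,
        fun _ => rfl, fun _ => rfl⟩
    have hcard : Nat.card K = Nat.card (MulAction.orbit K b) * Nat.card K' := by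
      rw [← Nat.card_congr (MulAction.orbitProdStabilizerEquivGroup K b), Nat.card_prod, hst]
    refine ⟨by rw [List.map_cons, List.prod_cons, hcard]; exact Nat.mul_le_mul horb hK', fun he g hg => ?_⟩
    rw [List.map_cons, List.prod_cons, hcard] at he
    have hKpos : 0 < Nat.card K' := Nat.card_pos
    have hopos : 0 < Nat.card (MulAction.orbit K b) := by
      haveI : Nonempty (MulAction.orbit K b) := ⟨⟨b, MulAction.mem_orbit_self b⟩⟩
      exact Nat.card_pos
    have e1 : Nat.card (MulAction.orbit K b) = l.sz := by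
      by_contra hne
      have : l.sz * (rest.map BaseLevel.sz).prod < Nat.card (MulAction.orbit K b) * Nat.card K' :=
        lt_of_le_of_lt (Nat.mul_le_mul_left _ hK') ((Nat.mul_lt_mul_right hKpos).2 (by omega))
      omega
    have e2 : (rest.map BaseLevel.sz).prod = Nat.card K' := by
      rw [← e1] at he
      exact Nat.eq_of_mul_eq_mul_left hopos he
    have heq : S = Fin.val '' MulAction.orbit K b := by
      refine Set.eq_of_subset_of_ncard_le hsub ?_ (Set.toFinite _)
      rw [Set.ncard_image_of_injective _ Fin.val_injective, hScard, ← e1, Nat.card_coe_set_eq]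
    have hrec : (∀ c : Fin 3510, (c : ℕ) = l.b → g c = c) → g ∈ K' := fun h =>
      ⟨hg, show g b = b from h b rfl⟩
    constructor
    · intro i hi hfix c hc
      rcases i with _ | i
      · rw [List.getD_cons_zero] at hc ⊢
        rw [show c = b from Fin.ext hc]
        have : ((g b : Fin 3510) : ℕ) ∈ S := heq ▸ ⟨g b, ⟨⟨g, hg⟩, rfl⟩, rfl⟩
        simp only [hS, Finset.coe_filter, Finset.mem_Ico, Set.mem_setOf_eq] at this
        exact this.2
      · rw [List.getD_cons_succ] at hc ⊢
        refine ((htight e2) g (hrec fun c hc => ?_)).1 i (by simpa using hi) (fun j hj c hc => ?_) c hc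
        · exact hfix 0 (Nat.succ_pos _) c (by rw [List.getD_cons_zero]; exact hc)
        · exact hfix (j + 1) (by omega) c (by rw [List.getD_cons_succ]; exact hc)
    · intro hfix
      refine ((htight e2) g (hrec fun c hc => ?_)).2 fun j hj c hc => ?_
      · exact hfix 0 (Nat.succ_pos _) c (by rw [List.getD_cons_zero]; exact hc)
      · exact hfix (j + 1) (by simpa using hj) c (by rw [List.getD_cons_succ]; exact hc)

/-- A word coded by a number. -/
def decW : ℕ → ℕ → List ℕ
  | 0, _ => []
  | f + 1, n => bif Nat.beq n 0 then [] else (n % 64 - 1) :: decW f (n / 64)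

/-- A word coded by a number. -/
def dw (n : ℕ) : List ℕ := decW 64 n

variable (C : Ch)

/-- The strong generators as tables. -/
noncomputable def gensOf : Slp where
  ng := 0
  K := C.gens.length
  word _ := []
  tbl k c := ev (dw (C.gens.getD k 0)) c

/-- The levels. -/
noncomputable def levs : List BaseLevel := C.levels.map fun x => ⟨x.1, x.2.1, x.2.2.1, x.2.2.2.1, x.2.2.2.2⟩

/-- The base points. -/
def baseOf : List ℕ := C.levels.map fun x => x.1

/-- The chain is valid. -/
noncomputable def chOk : Bool :=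
  C.gens.all (fun g => lt54 (dw g)) && chainOK (gensOf C) 3510 (levs C) &&
    Nat.beq ((levs C).map BaseLevel.sz).prod 64561751654400

/-- The orbit at a level. -/
noncomputable def orbAt (i : ℕ) : ℕ := ((levs C).getD i ⟨0, [], 0, [], 0⟩).m

variable {C}

/-- Fixing the earlier base points forces the next image into the orbit; fixing all is trivial. -/
theorem sift_spec (hC : chOk C = true) (a : Sz) :
    (∀ i < (baseOf C).length, (∀ j < i, ∀ c : Fin 3510, (c : ℕ) = (baseOf C).getD j 0 → rho a c = c) →
      ∀ c : Fin 3510, (c : ℕ) = (baseOf C).getD i 0 → (orbAt C i).testBit (rho a c : Fin 3510) = true) ∧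
    ((∀ j < (baseOf C).length, ∀ c : Fin 3510, (c : ℕ) = (baseOf C).getD j 0 → rho a c = c) → a = 1) := by
  simp only [chOk, Bool.and_eq_true, Nat.beq_eq, List.all_eq_true] at hC
  obtain ⟨⟨hg, hok⟩, hprod⟩ := hC
  haveI := finite_Sz
  have hinj : Function.Injective rho := Fi22Ord.injective_card.1
  have hK : Nat.card rho.range = 64561751654400 := by
    rw [← card_Sz]
    exact (Nat.card_congr (MonoidHom.ofInjective hinj).toEquiv).symm
  have hspec : ∀ {k : ℕ}, k < (gensOf C).K → ∀ c : Fin 3510,
      ((rho (wv (dw (C.gens.getD k 0))) c : Fin 3510) : ℕ) = (gensOf C).tbl k c := fun {k} hk c => by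
    refine wv_spec (hg _ ?_) c
    rw [List.getD_eq_getElem _ _ hk]
    exact List.getElem_mem _
  have h := (chain_tight (el := fun k => wv (dw (C.gens.getD k 0))) hspec (levs C) rho.range hok
    (fun l _ u _ => ⟨_, rfl⟩)).2 (hprod.trans hK.symm) (rho a) ⟨a, rfl⟩
  have hlen : (levs C).length = (baseOf C).length := by simp [levs, baseOf]
  have hb : ∀ i < (baseOf C).length, (baseOf C).getD i 0 = ((levs C).getD i ⟨0, [], 0, [], 0⟩).b := by
    intro i hi
    rw [List.getD_eq_getElem _ _ hi, List.getD_eq_getElem _ _ (hlen ▸ hi)]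
    simp [levs, baseOf]
  refine ⟨fun i hi hfix c hc => h.1 i (hlen ▸ hi) (fun j hj c hc => hfix j hj c ?_) c ?_, fun hfix => hinj ?_⟩
  · rw [hb j (by omega)]; exact hc
  · exact hc.trans (hb i hi)
  · rw [map_one]
    exact h.2 fun j hj c hc => hfix j (hlen ▸ hj) c (by rw [hb j (hlen ▸ hj)]; exact hc)

/-- Agreement on the base gives equality. -/
theorem base_ext (hC : chOk C = true) {a a' : Sz}
    (h : ∀ i < (baseOf C).length, ∀ c : Fin 3510, (c : ℕ) = (baseOf C).getD i 0 → rho a c = rho a' c) : a = a' := by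
  refine (inv_mul_eq_one.1 ((sift_spec hC (a'⁻¹ * a)).2 fun j hj c hc => ?_)).symm
  rw [map_mul, map_inv, Equiv.Perm.mul_apply, Equiv.Perm.inv_eq_iff_eq]
  exact h j hj c hc

variable (C)

/-- Two words agree. -/
noncomputable def eqB (w v : List ℕ) : Bool :=
  lt54 w && lt54 v && (baseOf C).all fun b => Nat.beq (ev w b) (ev v b)

/-- Two words differ. -/
noncomputable def neB (w v : List ℕ) : Bool :=
  lt54 w && lt54 v && !((baseOf C).all fun b => !Nat.blt b 3510 || Nat.beq (ev w b) (ev v b))

variable {C}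

theorem eqB_spec (hC : chOk C = true) {w v : List ℕ} (h : eqB C w v = true) : wv w = wv v := by
  simp only [eqB, Bool.and_eq_true, List.all_eq_true, Nat.beq_eq] at h
  refine base_ext hC fun i hi c hc => Fin.ext ?_
  have := h.2 _ (List.getElem_mem hi)
  rw [← List.getD_eq_getElem _ 0 hi] at this
  rw [wv_spec h.1.1, wv_spec h.1.2, hc, this]

theorem neB_spec {w v : List ℕ} (h : neB C w v = true) : wv w ≠ wv v := by
  simp only [neB, Bool.and_eq_true, Bool.not_eq_true', List.all_eq_false, Bool.or_eq_true, not_or,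
    Bool.not_eq_true, Bool.not_eq_eq_eq_not, Bool.not_true, Bool.not_eq_false, Nat.blt_eq] at h
  obtain ⟨⟨hw, hv⟩, b, -, hb, hne⟩ := h
  intro e
  have h1 := wv_spec hw ⟨b, hb⟩
  rw [e, wv_spec hv] at h1
  exact Nat.ne_of_beq_eq_false hne h1.symm

/-! ### Intertwining elements -/

/-- A permutation table. -/
def tb (T : List (List ℕ)) (c : ℕ) : ℕ := (T.getD (c / 50) []).getD (c % 50) 0

/-- Iterate a word. -/
noncomputable def itW (w : List ℕ) (c : ℕ) : ℕ → ℕ
  | 0 => c
  | n + 1 => ev w (itW w c n)

/-- Iterate a table. -/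
def itT (T : List (List ℕ)) (c : ℕ) : ℕ → ℕ
  | 0 => c
  | n + 1 => tb T (itT T c n)

variable (C) (S : Srch)

/-- The first checks. -/
noncomputable def headOk : Bool :=
  lt54 (dw S.u) && lt54 (dw S.v) && Nat.blt S.b 3510 &&
  (List.range (baseOf C).length).all (fun i => Nat.beq ((baseOf C).getD i 0) (itW (dw S.u) S.b i)) &&
  allIn (fun x => Nat.beq (tb S.vT x) (ev (dw S.v) x)) 0 3510

/-- The row of a point. -/
def rowAt (c : ℕ) : ℕ := (S.rows.getD (c / 50) []).getD (c % 50) 0

/-- The possibility that a point is the image of the anchor is excluded or leads to the listed elements. -/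
noncomputable def rowOk (c : ℕ) : Bool :=
  let l := rowAt S c % 8
  let w := dw (rowAt S c / 8)
  lt54 w &&
  bif Nat.blt l (baseOf C).length then
    (List.range l).all (fun i => Nat.beq (ev w (itT S.vT c i)) ((baseOf C).getD i 0)) &&
      !((orbAt C l).testBit (ev w (itT S.vT c l)))
  else
    (List.range (baseOf C).length).all (fun i => Nat.beq (ev w ((baseOf C).getD i 0)) (itT S.vT c i)) &&
      (neB C (w ++ dw S.u) (dw S.v ++ w) || S.known.any fun k => eqB C w (dw k))

/-- The test on a range of points. -/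
noncomputable def rowsIn (lo n : ℕ) : Bool := allIn (rowOk C S) lo n

variable {C} {S}

theorem srch_spec (hC : chOk C = true) (h1 : headOk C S = true) (h2 : ∀ c < 3510, rowOk C S c = true)
    {g : Sz} (hg : g * wv (dw S.u) = wv (dw S.v) * g) : ∃ k ∈ S.known, g = wv (dw k) := by
  simp only [headOk, Bool.and_eq_true, Nat.beq_eq, Nat.blt_eq, List.all_eq_true, List.mem_range] at h1
  obtain ⟨⟨⟨⟨hu, hv⟩, hb⟩, hq⟩, hT⟩ := h1
  set B : Fin 3510 := ⟨S.b, hb⟩
  set c := ((rho g B : Fin 3510) : ℕ) with hc
  have hit : ∀ n, ∃ y : Fin 3510, (y : ℕ) = itW (dw S.u) S.b n ∧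
      ((rho g y : Fin 3510) : ℕ) = itT S.vT c n := by
    intro n
    induction n with
    | zero => exact ⟨B, rfl, rfl⟩
    | succ n ih =>
      obtain ⟨y, hy, hy'⟩ := ih
      refine ⟨rho (wv (dw S.u)) y, by rw [wv_spec hu, hy]; rfl, ?_⟩
      rw [← Equiv.Perm.mul_apply, ← map_mul, hg, map_mul, Equiv.Perm.mul_apply, wv_spec hv]
      show ev (dw S.v) (rho g y : Fin 3510) = tb S.vT (itT S.vT c n)
      rw [← hy']
      exact (Nat.eq_of_beq_eq_true ((allIn_iff _ _ _).1 hT (rho g y : Fin 3510) (Nat.zero_le _) (by omega))).symm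
  have himg : ∀ i < (baseOf C).length, ∀ x : Fin 3510, (x : ℕ) = (baseOf C).getD i 0 →
      ((rho g x : Fin 3510) : ℕ) = itT S.vT c i := by
    intro i hi x hx
    obtain ⟨y, hy, hy'⟩ := hit i
    rw [show x = y from Fin.ext (by rw [hx, hq i hi, hy])]
    exact hy'
  have hr := h2 c (rho g B).isLt
  simp only [rowOk, Bool.and_eq_true] at hr
  obtain ⟨hw, hr⟩ := hr
  set l := rowAt S c % 8
  set w := dw (rowAt S c / 8)
  cases hl : Nat.blt l (baseOf C).length
  · rw [hl] at hr
    simp only [cond_false, Bool.and_eq_true, List.all_eq_true, List.mem_range, Nat.beq_eq, Bool.or_eq_true,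
      List.any_eq_true] at hr
    obtain ⟨he, hrest⟩ := hr
    have hge : g = wv w := base_ext hC fun i hi x hx => Fin.ext (by
      rw [himg i hi x hx, wv_spec hw, hx, he i hi])
    rcases hrest with h | ⟨k, hk', hek⟩
    · refine absurd ?_ (neB_spec h)
      rw [wv_append, wv_append, ← hge, hg]
    · exact ⟨k, hk', hge.trans (eqB_spec hC hek)⟩
  · rw [hl] at hr
    simp only [cond_true, Bool.and_eq_true, List.all_eq_true, List.mem_range, Nat.beq_eq, Bool.not_eq_true'] at hr
    obtain ⟨hfix, hout⟩ := hr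
    have hlk : l < (baseOf C).length := Nat.blt_eq.mp hl
    obtain ⟨y, hy, hy'⟩ := hit l
    have hyb : (y : ℕ) = (baseOf C).getD l 0 := by rw [hy, hq l hlk]
    have h := (sift_spec hC (wv w * g)).1 l hlk (fun j hj x hx => Fin.ext ?_) y hyb
    · rw [map_mul, Equiv.Perm.mul_apply, wv_spec hw, hy', hout] at h
      exact absurd h (by decide)
    · rw [map_mul, Equiv.Perm.mul_apply, wv_spec hw, himg j (by omega) x hx, hfix j hj, hx]

theorem rows_join (h0 : rowsIn C S 0 878 = true) (h1 : rowsIn C S 878 878 = true) (h2 : rowsIn C S 1756 878 = true)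
    (h3 : rowsIn C S 2634 876 = true) : rowsIn C S 0 3510 = true := by
  refine (allIn_iff _ _ _).2 fun c _ hc => ?_
  rcases Nat.lt_or_ge c 878 with h | h
  · exact (allIn_iff _ _ _).1 h0 c (Nat.zero_le _) (by omega)
  rcases Nat.lt_or_ge c 1756 with h' | h'
  · exact (allIn_iff _ _ _).1 h1 c h (by omega)
  rcases Nat.lt_or_ge c 2634 with h'' | h''
  · exact (allIn_iff _ _ _).1 h2 c h' (by omega)
  · exact (allIn_iff _ _ _).1 h3 c h'' (by omega)

end CfsgLib.FiTwoTwoOut
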