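/-
Checks bounding the automorphisms of the Fischer group Fi22.
-/
import Cfsg.Agent.FiTwoTwoOut.Defs

set_option autoImplicit false

namespace CfsgLib.FiTwoTwoOut

open H29.CosetCert

/-- A word repeated. -/
def repW (w : List ℕ) : ℕ → List ℕ
  | 0 => []
  | m + 1 => w ++ repW w m

/-- Substitution for two letters. -/
def sub2 (a z : List ℕ) : List ℕ → List ℕ
  | [] => []
  | x :: r => (bif Nat.beq x 0 then a else z) ++ sub2 a z r

/-- The element of order thirteen. -/
def uA : List ℕ := dw wA
/-- The element normalising its subgroup. -/
def uY : List ℕ := dw wY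
/-- The second generator. -/
def uZ : List ℕ := dw (srchY.known.getD zi 0)
/-- Its image under the outer automorphism. -/
def uZ' : List ℕ := dw (srchY.known.getD zo 0)

/-- The powers and the relations. -/
noncomputable def relOk : Bool :=
  eqB chY (dw srchA.u) uA && eqB chY (dw srchA.v) uA && eqB chY (dw srchB.u) uA &&
  eqB chY (dw srchB.v) (uA ++ uA) && eqB chY (dw srchY.u) uY && eqB chY (dw srchY.v) (repW uY 5) &&
  eqB chY (repW uA 13) [] && neB chY uA [] && eqB chY (uY ++ uA) (repW uA 4 ++ uY) &&
  eqB chY (uZ ++ uY) (repW uY 5 ++ uZ) &&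
  Nat.beq srchA.known.length 13 &&
  (List.range 13).all fun i => eqB chY (dw (srchA.known.getD i 0)) (repW uA i)

/-- The relations used to exclude candidates hold. -/
noncomputable def relsOk : Bool := rels.all fun V => eqB chY (repW (sub2 uA uZ V.1) V.2) []

/-- A candidate is excluded by a relation. -/
noncomputable def killOk (e : ℕ) (c : List ℕ) (j : ℕ) : Bool :=
  let w := sub2 (repW uA e) c (rels.getD j ([], 0)).1
  Nat.blt j rels.length && lt54 w &&
    !((baseOf chY).all fun b => !Nat.blt b 3510 || Nat.beq (itW w b (rels.getD j ([], 0)).2) b)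

/-- The tables of the two generators. -/
noncomputable def tabsOk : Bool :=
  lt54 uA && lt54 uZ && allIn (fun c => Nat.beq (tb aT c) (ev uA c) && Nat.beq (tb zT c) (ev uZ c)) 0 3510

/-- The table of a letter. -/
def pT (x c : ℕ) : ℕ := bif Nat.beq x 0 then tb aT c else tb zT c

/-- Strong generators as words in the two generators. -/
noncomputable def gensG : Slp where
  ng := 0
  K := genWords.length
  word _ := []
  tbl k c := runR pT (genWords.getD k []) c

/-- The two elements generate. -/
noncomputable def genOk : Bool :=
  chainOK gensG 3510 (levs chG) && Nat.beq ((levs chG).map BaseLevel.sz).prod 64561751654400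

/-- The tables are inverse to each other. -/
def sigBij : Bool :=
  allIn (fun c => Nat.blt (tb sigT c) 3510 && Nat.blt (tb sigI c) 3510 && Nat.beq (tb sigI (tb sigT c)) c &&
      Nat.beq (tb sigT (tb sigI c)) c) 0 3510

/-- The table carries one element to another. -/
noncomputable def sigConj (w w' : List ℕ) : Bool :=
  allIn (fun c => Nat.beq (tb sigT (ev w c)) (ev w' (tb sigT c))) 0 3510

end CfsgLib.FiTwoTwoOut
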