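/-
Kernel checks bounding the automorphisms of the Fischer group Fi22.
-/
import Cfsg.Agent.FiTwoTwoOut.Checks

set_option autoImplicit false
set_option maxRecDepth 100000
set_option maxHeartbeats 0
set_option Elab.async false

namespace CfsgLib.FiTwoTwoOut

theorem headA : headOk chA srchA = true := by decide +kernel
theorem rows_A0 : rowsIn chA srchA 0 878 = true := by decide +kernel
theorem rows_A1 : rowsIn chA srchA 878 878 = true := by decide +kernel
theorem rows_A2 : rowsIn chA srchA 1756 878 = true := by decide +kernel
theorem rows_A3 : rowsIn chA srchA 2634 876 = true := by decide +kernel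
theorem rows_A : rowsIn chA srchA 0 3510 = true := rows_join rows_A0 rows_A1 rows_A2 rows_A3
theorem headB : headOk chA srchB = true := by decide +kernel
theorem rows_B0 : rowsIn chA srchB 0 878 = true := by decide +kernel
theorem rows_B1 : rowsIn chA srchB 878 878 = true := by decide +kernel
theorem rows_B2 : rowsIn chA srchB 1756 878 = true := by decide +kernel
theorem rows_B3 : rowsIn chA srchB 2634 876 = true := by decide +kernel
theorem rows_B : rowsIn chA srchB 0 3510 = true := rows_join rows_B0 rows_B1 rows_B2 rows_B3

end CfsgLib.FiTwoTwoOut
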