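/-
Kernel checks bounding the automorphisms of the Fischer group Fi22.
-/
import Cfsg.Agent.FiTwoTwoOut.Checks

set_option autoImplicit false
set_option maxRecDepth 100000
set_option maxHeartbeats 0
set_option Elab.async false

namespace CfsgLib.FiTwoTwoOut

theorem chA_ok : chOk chA = true := by decide +kernel
theorem chY_ok : chOk chY = true := by decide +kernel
theorem gen_ok : genOk = true := by decide +kernel
theorem tabs_ok : tabsOk = true := by decide +kernel

end CfsgLib.FiTwoTwoOut
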