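/-
Kernel checks bounding the automorphisms of the Fischer group Fi22.
-/
import Cfsg.Agent.FiTwoTwoOut.Checks

set_option autoImplicit false
set_option maxRecDepth 100000
set_option maxHeartbeats 0
set_option Elab.async false

namespace CfsgLib.FiTwoTwoOut

open H29.CosetCert

theorem one_ok : allIn (fun i => Nat.beq i zi || killOk 1 (dw (srchY.known.getD i 0)) (tb verdOne i)) 0 216 = true := by decide +kernel
theorem two_ok : allIn (fun i => Nat.beq i zo || killOk 2 (dw (srchY.known.getD i 0)) (tb verdTwo i)) 0 216 = true := by decide +kernel

end CfsgLib.FiTwoTwoOut
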