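/-
Kernel checks bounding the automorphisms of the Fischer group Fi22.
-/
import Cfsg.Agent.FiTwoTwoOut.Checks

set_option autoImplicit false
set_option maxRecDepth 100000
set_option maxHeartbeats 0
set_option Elab.async false

namespace CfsgLib.FiTwoTwoOut

open H29.CosetCert

theorem rel_ok : relOk = true := by decide +kernel
theorem rels_ok : relsOk = true := by decide +kernel
theorem known_len : srchY.known.length = 216 ∧ srchB.known = [] := by decide +kernel
theorem sig_bij : sigBij = true := by decide +kernel
theorem sigA : sigConj uA (uA ++ uA) = true := by decide +kernel
theorem sigY : sigConj uY uY = true := by decide +kernel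
theorem sigZ : sigConj uZ uZ' = true := by decide +kernel

end CfsgLib.FiTwoTwoOut
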