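/-
Kernel checks bounding the automorphisms of the Fischer group Fi22.
-/
import Cfsg.Agent.FiTwoTwoOut.Checks

set_option autoImplicit false
set_option maxRecDepth 100000
set_option maxHeartbeats 0
set_option Elab.async false

namespace CfsgLib.FiTwoTwoOut

theorem headY : headOk chY srchY = true := by decide +kernel
theorem rows_Y0 : rowsIn chY srchY 0 878 = true := by decide +kernel
theorem rows_Y1 : rowsIn chY srchY 878 878 = true := by decide +kernel
theorem rows_Y2 : rowsIn chY srchY 1756 878 = true := by decide +kernel
theorem rows_Y3 : rowsIn chY srchY 2634 876 = true := by decide +kernel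
theorem rows_Y : rowsIn chY srchY 0 3510 = true := rows_join rows_Y0 rows_Y1 rows_Y2 rows_Y3

end CfsgLib.FiTwoTwoOut
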