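/-
The outer automorphism group of the Fischer group Fi22 has order two.
-/
import Cfsg.Agent.FiTwoTwoOut.ChkA
import Cfsg.Agent.FiTwoTwoOut.ChkY
import Cfsg.Agent.FiTwoTwoOut.ChkR
import Cfsg.Agent.FiTwoTwoOut.ChkC
import Cfsg.Agent.FiTwoTwoOut.ChkK
import Cfsg.Prelude.Def_KGroupFacts

set_option autoImplicit false
set_option maxRecDepth 100000

namespace CfsgLib.FiTwoTwoOut

open H29.CosetCert MulAction

theorem wv_repW (w : List ℕ) : ∀ m, wv (repW w m) = wv w ^ m
  | 0 => (pow_zero (wv w)).symm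
  | m + 1 => by rw [repW, wv_append, wv_repW w m, pow_succ']

theorem wv_sub2 (a z : List ℕ) : ∀ r : List ℕ,
    wv (sub2 a z r) = (r.map fun x => bif Nat.beq x 0 then wv a else wv z).prod
  | [] => rfl
  | x :: r => by
    rw [sub2, wv_append, List.map_cons, List.prod_cons, wv_sub2 a z r]
    cases Nat.beq x 0 <;> rfl

theorem wv_itW {w : List ℕ} (hw : lt54 w = true) (c : Fin 3510) :
    ∀ n, ((rho (wv w ^ n) c : Fin 3510) : ℕ) = itW w c n
  | 0 => by rw [pow_zero, map_one]; rfl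
  | n + 1 => by rw [pow_succ', map_mul, Equiv.Perm.mul_apply, wv_spec hw, wv_itW hw c n]; rfl

/-- The element of order thirteen. -/
noncomputable def A : Sz := wv uA
/-- The element normalising its subgroup. -/
noncomputable def Y : Sz := wv uY
/-- The second generator. -/
noncomputable def Z : Sz := wv uZ

theorem facts : wv (dw srchA.u) = A ∧ wv (dw srchA.v) = A ∧ wv (dw srchB.u) = A ∧ wv (dw srchB.v) = A * A ∧
    wv (dw srchY.u) = Y ∧ wv (dw srchY.v) = Y ^ 5 ∧
    A ^ 13 = 1 ∧ A ≠ 1 ∧ Y * A = A ^ 4 * Y ∧ Z * Y = Y ^ 5 * Z ∧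
    srchA.known.length = 13 ∧ ∀ i < 13, wv (dw (srchA.known.getD i 0)) = A ^ i := by
  have h := rel_ok
  simp only [relOk, Bool.and_eq_true, List.all_eq_true, List.mem_range, Nat.beq_eq] at h
  obtain ⟨⟨⟨⟨⟨⟨⟨⟨⟨⟨⟨h1, h2⟩, h3⟩, h4⟩, h5⟩, h6⟩, h8⟩, h9⟩, h10⟩, h11⟩, h13⟩, h14⟩ := h
  have hC := chY_ok
  refine ⟨eqB_spec hC h1, eqB_spec hC h2, eqB_spec hC h3, ?_, eqB_spec hC h5, ?_, ?_, ?_, ?_, ?_, h13, ?_⟩
  · rw [eqB_spec hC h4, wv_append]; rfl
  · rw [eqB_spec hC h6, wv_repW]; rfl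
  · have := eqB_spec hC h8
    rwa [wv_repW, wv_nil] at this
  · have := neB_spec h9
    rwa [wv_nil] at this
  · have := eqB_spec hC h10
    rwa [wv_append, wv_append, wv_repW] at this
  · have := eqB_spec hC h11
    rwa [wv_append, wv_append, wv_repW] at this
  · intro i hi
    rw [eqB_spec hC (h14 i hi), wv_repW]; rfl

theorem closure_AZ : Subgroup.closure {A, Z} = (⊤ : Subgroup Sz) := by
  haveI := finite_Sz
  have hinj : Function.Injective rho := Fi22Ord.injective_card.1
  have ht := tabs_ok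
  simp only [tabsOk, Bool.and_eq_true] at ht
  obtain ⟨⟨hA, hZ⟩, ht⟩ := ht
  let f : ℕ → Sz := fun x => bif Nat.beq x 0 then A else Z
  have hf : ∀ (x : ℕ) (c : Fin 3510), ((rho (f x) c : Fin 3510) : ℕ) = pT x c := fun x c => by
    have h := (allIn_iff _ _ _).1 ht c (Nat.zero_le _) (by omega)
    rw [Bool.and_eq_true, Nat.beq_eq, Nat.beq_eq] at h
    simp only [f, pT]
    cases Nat.beq x 0
    · exact (wv_spec hZ c).trans h.2.symm
    · exact (wv_spec hA c).trans h.1.symm
  have hspec : ∀ {k : ℕ}, k < gensG.K → ∀ c : Fin 3510,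
      ((rho ((genWords.getD k []).map f).prod c : Fin 3510) : ℕ) = gensG.tbl k c := fun {k} _ c => by
    show _ = runR pT (genWords.getD k []) c
    generalize genWords.getD k [] = w
    induction w generalizing c with
    | nil => simp [runR]
    | cons x w ih => rw [List.map_cons, List.prod_cons, map_mul, Equiv.Perm.mul_apply, runR_cons, hf, ih]
  have hg := gen_ok
  simp only [genOk, Bool.and_eq_true, Nat.beq_eq] at hg
  have hle := (chain_tight (el := fun k => ((genWords.getD k []).map f).prod) hspec (levs chG)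
    ((Subgroup.closure {A, Z}).map rho) hg.1 (fun l _ u _ => ⟨_, list_prod_mem fun e he => by
      obtain ⟨y, -, rfl⟩ := List.mem_map.1 he
      simp only [f]
      cases Nat.beq y 0
      · exact Subgroup.subset_closure (Set.mem_insert_of_mem _ rfl)
      · exact Subgroup.subset_closure (Set.mem_insert _ _), rfl⟩)).1
  rw [hg.2, Nat.card_congr ((Subgroup.closure {A, Z}).equivMapOfInjective rho hinj).symm.toEquiv, ← card_Sz] at hle
  exact Subgroup.eq_top_of_card_eq _ (le_antisymm (Subgroup.card_le_card_group _) hle)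

theorem hom_ext {f f' : MulAut Sz} (hA : f A = f' A) (hZ : f Z = f' Z) : f = f' :=
  MulEquiv.toMonoidHom_injective (MonoidHom.eq_of_eqOn_dense closure_AZ (by
    rintro _ (rfl | rfl)
    exacts [hA, hZ]))

/-- The permutation of the points. -/
noncomputable def sigma : Equiv.Perm (Fin 3510) where
  toFun c := ⟨tb sigT c, by
    have h := (allIn_iff _ _ _).1 sig_bij c (Nat.zero_le _) (by omega)
    simp only [Bool.and_eq_true, Nat.blt_eq] at h
    exact h.1.1.1⟩
  invFun c := ⟨tb sigI c, by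
    have h := (allIn_iff _ _ _).1 sig_bij c (Nat.zero_le _) (by omega)
    simp only [Bool.and_eq_true, Nat.blt_eq] at h
    exact h.1.1.2⟩
  left_inv c := Fin.ext (by
    have h := (allIn_iff _ _ _).1 sig_bij c (Nat.zero_le _) (by omega)
    simp only [Bool.and_eq_true, Nat.beq_eq] at h
    exact h.1.2)
  right_inv c := Fin.ext (by
    have h := (allIn_iff _ _ _).1 sig_bij c (Nat.zero_le _) (by omega)
    simp only [Bool.and_eq_true, Nat.beq_eq] at h
    exact h.2)

theorem sigma_conj {w w' : List ℕ} (hw : lt54 w = true) (hw' : lt54 w' = true)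
    (h : sigConj w w' = true) : rho (wv w') = sigma * rho (wv w) * sigma⁻¹ := by
  rw [eq_mul_inv_iff_mul_eq]
  refine Equiv.ext fun c => Fin.ext ?_
  rw [Equiv.Perm.mul_apply, Equiv.Perm.mul_apply, wv_spec hw']
  show ev w' (tb sigT c) = tb sigT (rho (wv w) c : Fin 3510)
  rw [wv_spec hw]
  exact (Nat.eq_of_beq_eq_true ((allIn_iff _ _ _).1 h c (Nat.zero_le _) (by omega))).symm

theorem exists_theta : ∃ θ : MulAut Sz, θ A = A * A ∧ θ Y = Y ∧ θ Z = wv uZ' := by
  haveI := finite_Sz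
  have lA : lt54 uA = true := by decide +kernel
  have lA2 : lt54 (uA ++ uA) = true := by decide +kernel
  have lY : lt54 uY = true := by decide +kernel
  have lZ : lt54 uZ = true := by decide +kernel
  have lZ' : lt54 uZ' = true := by decide +kernel
  have eA : rho (A * A) = sigma * rho A * sigma⁻¹ := by
    rw [show A * A = wv (uA ++ uA) from (wv_append _ _).symm]
    exact sigma_conj lA lA2 sigA
  have eY : rho Y = sigma * rho Y * sigma⁻¹ := sigma_conj lY lY sigY
  have eZ : rho (wv uZ') = sigma * rho Z * sigma⁻¹ := sigma_conj lZ lZ' sigZ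
  let c : Sz →* Equiv.Perm (Fin 3510) := (MulAut.conj sigma).toMonoidHom.comp rho
  have hall : ∀ g : Sz, c g ∈ rho.range := by
    have : Subgroup.closure {A, Z} ≤ rho.range.comap c := (Subgroup.closure_le _).2 (by
      rintro _ (rfl | rfl)
      exacts [⟨A * A, eA⟩, ⟨wv uZ', eZ⟩])
    rw [closure_AZ] at this
    exact fun g => this (Subgroup.mem_top g)
  have hinj : Function.Injective rho := Fi22Ord.injective_card.1
  let e := MonoidHom.ofInjective hinj
  let f : Sz →* Sz := e.symm.toMonoidHom.comp (c.codRestrict rho.range hall)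
  have hf : Function.Injective f := by
    refine e.symm.injective.comp fun a b hab => ?_
    have h : c a = c b := congrArg Subtype.val hab
    exact hinj ((MulAut.conj sigma).injective h)
  refine ⟨MulEquiv.ofBijective f (Finite.injective_iff_bijective.1 hf), ?_, ?_, ?_⟩ <;> refine hinj ?_ <;>
    show rho (e.symm _) = _ <;> rw [MonoidHom.apply_ofInjective_symm]
  exacts [eA.symm, eY.symm, eZ.symm]

theorem rows_spec {C : Ch} {S : Srch} (h : rowsIn C S 0 3510 = true) : ∀ c < 3510, rowOk C S c = true :=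
  fun c hc => (allIn_iff _ _ _).1 h c (Nat.zero_le _) (by omega)

/-- An element commuting with the element of order thirteen is one of its powers. -/
theorem centA {g : Sz} (hg : g * A = A * g) : ∃ i < 13, g = A ^ i := by
  obtain ⟨hu, hv, -, -, -, -, -, -, -, -, hlen, hk⟩ := facts
  obtain ⟨k, hk', rfl⟩ := srch_spec chA_ok headA (rows_spec rows_A) (g := g) (by rw [hu, hv]; exact hg)
  obtain ⟨i, hi, rfl⟩ := List.getElem_of_mem hk'
  refine ⟨i, hlen ▸ hi, ?_⟩
  rw [← hk i (hlen ▸ hi), List.getD_eq_getElem _ _ hi]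

/-- No element conjugates the element of order thirteen to its square. -/
theorem no_square {g : Sz} : g * A ≠ A * A * g := by
  intro hg
  obtain ⟨-, -, hu, hv, -⟩ := facts
  obtain ⟨k, hk', -⟩ := srch_spec chA_ok headB (rows_spec rows_B) (g := g) (by rw [hu, hv]; exact hg)
  rw [known_len.2] at hk'
  simp at hk'

theorem mk_eq_of_conj (g : Sz) (φ : MulAut Sz) :
    (QuotientGroup.mk (MulAut.conj g * φ) : Cfsg.Out Sz) = QuotientGroup.mk φ := by
  refine QuotientGroup.eq.2 ⟨φ.symm g⁻¹, MulEquiv.ext fun x => ?_⟩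
  show φ.symm g⁻¹ * x * (φ.symm g⁻¹)⁻¹ = (MulAut.conj g * φ)⁻¹ (φ x)
  apply (MulAut.conj g * φ).injective
  rw [MulAut.apply_inv_self]
  simp [MulAut.mul_apply, MulAut.conj_apply, mul_assoc]

theorem killed {ψ : MulAut Sz} {e j : ℕ} {c : List ℕ} (h : killOk e c j = true)
    (ha : ψ A = A ^ e) (hc : ψ Z = wv c) : False := by
  simp only [killOk, Bool.and_eq_true, Bool.not_eq_true', List.all_eq_false, Bool.or_eq_true, not_or,
    Bool.not_eq_true, Bool.not_eq_eq_eq_not, Bool.not_true, Bool.not_eq_false, Nat.blt_eq] at h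
  obtain ⟨⟨hj, hw⟩, b, -, hb, hne⟩ := h
  have hmem : rels.getD j ([], 0) ∈ rels := by
    rw [List.getD_eq_getElem _ _ hj]
    exact List.getElem_mem _
  have h1 := eqB_spec chY_ok (List.all_eq_true.1 rels_ok _ hmem)
  suffices hs : wv (sub2 (repW uA e) c (rels.getD j ([], 0)).1) ^ (rels.getD j ([], 0)).2 = 1 by
    have h3 := wv_itW hw ⟨b, hb⟩ (rels.getD j ([], 0)).2
    rw [hs, map_one] at h3
    exact Nat.ne_of_beq_eq_false hne h3.symm
  rw [wv_nil, wv_repW] at h1
  have h2 := congrArg ψ h1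
  rw [map_pow, map_one, wv_sub2, map_list_prod, List.map_map] at h2
  rw [wv_sub2]
  refine Eq.trans ?_ h2
  refine congrArg (· ^ _) (congrArg List.prod (List.map_congr_left fun y _ => ?_))
  show (bif Nat.beq y 0 then wv (repW uA e) else wv c) = ψ (bif Nat.beq y 0 then A else Z)
  cases Nat.beq y 0
  · exact hc.symm
  · exact (wv_repW _ _).trans ha.symm

theorem card_out_Fi22 : Nat.card (Cfsg.Out Sz) = 2 := by
  classical
  haveI := finite_Sz
  obtain ⟨-, -, -, -, hYu, hYv, hpow, hA, hYA, hZY, -, -⟩ := facts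
  obtain ⟨θ, hθA, hθY, hθZ⟩ := exists_theta
  haveI : Fact (Nat.Prime 13) := ⟨by norm_num⟩
  have hoA : orderOf A = 13 := orderOf_eq_prime hpow hA
  have hA4 : ∀ n : ℕ, Y * A ^ n = A ^ (4 * n) * Y := by
    intro n
    induction n with
    | zero => simp
    | succ n ih => rw [pow_succ, ← mul_assoc, ih, mul_assoc, hYA, ← mul_assoc, ← pow_add, Nat.mul_succ]
  have hYm : ∀ m n : ℕ, Y ^ m * A ^ n = A ^ (4 ^ m * n) * Y ^ m := by
    intro m
    induction m with
    | zero => intro n; simp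
    | succ m ih =>
      intro n
      rw [pow_succ, mul_assoc, hA4, ← mul_assoc, ih, mul_assoc, ← pow_succ, ← mul_assoc]
      ring_nf
  have hmod : ∀ {a b : ℕ}, a % 13 = b % 13 → A ^ a = A ^ b := fun {a b} hab =>
    pow_eq_pow_iff_modEq.2 (by rw [hoA]; exact hab)
  have hnot : (QuotientGroup.mk θ : Cfsg.Out Sz) ≠ 1 := by
    intro e
    obtain ⟨g, hg⟩ := (QuotientGroup.eq_one_iff _).1 e
    refine no_square (g := g) ?_
    have h : θ A = g * A * g⁻¹ := by rw [← hg]; rfl
    rw [hθA, eq_mul_inv_iff_mul_eq] at h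
    exact h.symm
  refine Nat.card_eq_two_iff.2 ⟨1, QuotientGroup.mk θ, hnot.symm, Set.eq_univ_of_forall fun x => ?_⟩
  obtain ⟨φ, rfl⟩ := QuotientGroup.mk_surjective x
  -- move the subgroup of order thirteen back
  have hfac : (Nat.card Sz).factorization 13 = 1 := by
    rw [card_Sz]
    have h : (64561751654400 : ℕ) = 13 * 4966288588800 := by norm_num
    rw [h, Nat.factorization_mul (by norm_num) (by norm_num), Finsupp.add_apply,
      Nat.Prime.factorization_self (by norm_num), Nat.factorization_eq_zero_of_not_dvd (by norm_num)]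
  have hsyl : ∀ y : Sz, orderOf y = 13 →
      Nat.card (Subgroup.zpowers y) = 13 ^ (Nat.card Sz).factorization 13 := fun y hy => by
    rw [Nat.card_zpowers, hy, hfac, pow_one]
  have hoA' : orderOf (φ A) = 13 := by rw [MulEquiv.orderOf_eq]; exact hoA
  obtain ⟨g1, hg1⟩ := MulAction.exists_smul_eq Sz (Sylow.ofCard _ (hsyl A hoA)) (Sylow.ofCard _ (hsyl _ hoA'))
  have hin : g1⁻¹ * φ A * g1 ∈ Subgroup.zpowers A := by
    have h : φ A ∈ ((g1 • Sylow.ofCard _ (hsyl A hoA) : Sylow 13 Sz) : Subgroup Sz) := by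
      rw [hg1]; exact Subgroup.mem_zpowers _
    rw [Sylow.coe_subgroup_smul, Subgroup.mem_pointwise_smul_iff_inv_smul_mem] at h
    simpa [MulAut.smul_def] using h
  rw [mem_zpowers_iff_mem_range_orderOf, Finset.mem_image] at hin
  obtain ⟨j, hj, hje⟩ := hin
  rw [Finset.mem_range, hoA] at hj
  have hj0 : j ≠ 0 := by
    rintro rfl
    rw [pow_zero] at hje
    have h2 : φ A = 1 := by
      have := congrArg (fun y => g1 * y * g1⁻¹) hje
      simpa [mul_assoc] using this.symm
    rw [h2, orderOf_one] at hoA'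
    norm_num at hoA'
  have hco : ∀ j : Fin 13, (j : ℕ) ≠ 0 → ∃ m : Fin 6, 4 ^ (m : ℕ) * (j : ℕ) % 13 = 1 ∨
      4 ^ (m : ℕ) * (j : ℕ) % 13 = 2 := by
    decide
  obtain ⟨m, hm⟩ := hco ⟨j, hj⟩ hj0
  obtain ⟨e, he, hme⟩ : ∃ e, (e = 1 ∨ e = 2) ∧ 4 ^ (m : ℕ) * j % 13 = e :=
    hm.elim (fun h => ⟨1, Or.inl rfl, h⟩) fun h => ⟨2, Or.inr rfl, h⟩
  set ψ0 := MulAut.conj (Y ^ (m : ℕ) * g1⁻¹) * φ with hψ0
  have hA0 : ψ0 A = A ^ e := by
    show Y ^ (m : ℕ) * g1⁻¹ * φ A * (Y ^ (m : ℕ) * g1⁻¹)⁻¹ = _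
    rw [show Y ^ (m : ℕ) * g1⁻¹ * φ A * (Y ^ (m : ℕ) * g1⁻¹)⁻¹ =
      Y ^ (m : ℕ) * (g1⁻¹ * φ A * g1) * (Y ^ (m : ℕ))⁻¹ by group, ← hje, hYm, mul_inv_cancel_right,
      hmod (show 4 ^ (m : ℕ) * j % 13 = e % 13 by rw [hme]; omega)]
  -- the image of the normalising element
  set d := Y⁻¹ * ψ0 Y with hd
  have hdAe : Commute d (A ^ e) := by
    have h1 := congrArg ψ0 hYA
    rw [map_mul, map_mul, map_pow, hA0] at h1
    show Y⁻¹ * ψ0 Y * A ^ e = A ^ e * (Y⁻¹ * ψ0 Y)
    rw [mul_assoc, h1, ← mul_assoc, ← mul_assoc]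
    congr 1
    rw [inv_mul_eq_iff_eq_mul, ← mul_assoc, hA4, mul_inv_cancel_right, ← pow_mul, mul_comm]
  have hdA : d * A = A * d := by
    rcases he with rfl | rfl
    · simpa using hdAe.eq
    · have h7 : (A ^ 2) ^ 7 = A := by rw [← pow_mul, hmod (show 14 % 13 = 1 % 13 from rfl), pow_one]
      have h8 := (hdAe.pow_right 7).eq
      rwa [h7] at h8
  obtain ⟨i, -, hdi⟩ := centA hdA
  set ψ := MulAut.conj (A ^ (10 * i)) * ψ0 with hψ
  have hψA : ψ A = A ^ e := by
    show A ^ (10 * i) * ψ0 A * (A ^ (10 * i))⁻¹ = _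
    rw [hA0, ← pow_add, Nat.add_comm, pow_add, mul_inv_cancel_right]
  have hψY : ψ Y = Y := by
    show A ^ (10 * i) * ψ0 Y * (A ^ (10 * i))⁻¹ = Y
    rw [mul_inv_eq_iff_eq_mul, show ψ0 Y = Y * A ^ i by rw [← hdi, hd, mul_inv_cancel_left], hA4, hA4,
      ← mul_assoc, ← pow_add]
    exact congrArg (· * Y) (hmod (by omega))
  have hψZ : ψ Z * Y = Y ^ 5 * ψ Z := by
    have h1 := congrArg ψ hZY
    rwa [map_mul, map_mul, map_pow, hψY] at h1
  obtain ⟨k, hk, hkZ⟩ := srch_spec chY_ok headY (rows_spec rows_Y) (g := ψ Z) (by rw [hYu, hYv]; exact hψZ)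
  obtain ⟨n, hn, rfl⟩ := List.getElem_of_mem hk
  have hn216 : n < 216 := known_len.1 ▸ hn
  rw [← List.getD_eq_getElem _ 0 hn] at hkZ
  have hres : ψ = 1 ∨ ψ = θ := by
    rcases he with rfl | rfl
    · have h := (allIn_iff _ _ _).1 one_ok n (Nat.zero_le _) (by omega)
      rw [Bool.or_eq_true, Nat.beq_eq] at h
      rcases h with h | h
      · refine Or.inl (hom_ext (by rw [hψA, pow_one]; rfl) ?_)
        rw [hkZ, h]
        rfl
      · exact (killed h hψA hkZ).elim
    · have h := (allIn_iff _ _ _).1 two_ok n (Nat.zero_le _) (by omega)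
      rw [Bool.or_eq_true, Nat.beq_eq] at h
      rcases h with h | h
      · refine Or.inr (hom_ext (by rw [hψA, hθA, pow_two]) ?_)
        rw [hkZ, h, hθZ]
        rfl
      · exact (killed h hψA hkZ).elim
  have hmk : (QuotientGroup.mk φ : Cfsg.Out Sz) = QuotientGroup.mk ψ := by
    rw [hψ, mk_eq_of_conj, hψ0, mk_eq_of_conj]
  rcases hres with h | h
  · exact Or.inl (by rw [hmk, h]; rfl)
  · exact Or.inr (by rw [hmk, h]; rfl)

end CfsgLib.FiTwoTwoOut
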